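import Groth.Prelude.Def_ega3
import Groth.Agent.CohCmpLib.Hm
import Groth.Agent.FlatCxLib.Homology
import Groth.Agent.FlatCxLib.BaseChange

/-! Base change of a flat complex with flat homology, universally exact in high degrees. -/

set_option autoImplicit false
universe u

open CategoryTheory CategoryTheory.Limits TensorProduct
open FlatCxLib (Hm)

namespace FlatHomBC

variable {A : Type u} [CommRing A] (C : CochainComplex (ModuleCat.{u} A) ℕ)

/-- incoming differential -/
noncomputable abbrev dIn (n : ℕ) : C.X ((ComplexShape.up ℕ).prev n) →ₗ[A] C.X n :=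
  (C.d ((ComplexShape.up ℕ).prev n) n).hom

/-- outgoing differential -/
noncomputable abbrev dOut (n : ℕ) : C.X n →ₗ[A] C.X (n + 1) := (C.d n (n + 1)).hom

theorem dOut_dIn (n : ℕ) : dOut C n ∘ₗ dIn C n = 0 := by
  rw [← ModuleCat.hom_comp, C.d_comp_d]; rfl

/-- homology as kernel modulo image -/
noncomputable def hmEquiv (n : ℕ) : Hm (dIn C n) (dOut C n) ≃ₗ[A] (C.homology n : Type u) :=
  FlatCxLib.homologyEquiv C n (n + 1) (by simp) _ rfl

variable (hfl : ∀ n, Module.Flat A (C.X n)) (hH : ∀ n, Module.Flat A (C.homology n)) (N : ℕ)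
  (hN : ∀ (M : ModuleCat.{u} A) (n : ℕ), N ≤ n → IsZero (CohIII.T C n M))

include hN in
theorem exact_tensor (n : ℕ) (hn : N ≤ n) (M : Type u) [AddCommGroup M] [Module A M]
    (y : (C.X n : Type u) ⊗[A] M) (hy : (dOut C n).rTensor M y = 0) :
    y ∈ LinearMap.range ((dIn C n).rTensor M) := by
  have hz := hN (ModuleCat.of A M) n hn
  haveI : Subsingleton ((CohIII.tensorObj C (ModuleCat.of A M)).homology n) := ModuleCat.subsingleton_of_isZero hz
  exact (FlatCxLib.hcls_eq_zero_iff (CohIII.tensorObj C (ModuleCat.of A M)) n (n + 1) (by simp) _ rfl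
    ⟨y, hy⟩).1 (Subsingleton.elim _ _)

include hfl hH hN in
theorem flat_coker_in (n : ℕ) : Module.Flat A ((C.X n : Type u) ⧸ LinearMap.range (dIn C n)) := by
  obtain ⟨k, hk⟩ := Nat.exists_eq_add_of_le (Nat.zero_le N)
  suffices h : ∀ (k n : ℕ), N ≤ n + k → Module.Flat A ((C.X n : Type u) ⧸ LinearMap.range (dIn C n)) from
    h N n (Nat.le_add_left _ _)
  intro k
  induction k with
  | zero =>
    intro n hn
    haveI := hfl (n + 1)
    exact CohCmpLib.flat_coker_of_exact (dIn C n) (dOut C n) (dOut_dIn C n)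
      (fun M _ _ y hy => exact_tensor C N hN n (by omega) M y hy)
  | succ k ih =>
    intro n hn
    haveI := hfl (n + 1)
    haveI : Module.Flat A ((C.X (n + 1) : Type u) ⧸ LinearMap.range (dOut C n)) := by
      have h := ih (n + 1) (by omega)
      have e : ∀ j, j = n → LinearMap.range ((C.d j (n + 1)).hom) = LinearMap.range (dOut C n) := by
        rintro j rfl; rfl
      exact Module.Flat.of_linearEquiv (Submodule.quotEquivOfEq _ _ (e _ (CochainComplex.prev_nat_succ n))).symm
    haveI : Module.Flat A (Hm (dIn C n) (dOut C n)) := by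
      haveI := hH n
      exact Module.Flat.of_linearEquiv (hmEquiv C n)
    exact CohCmpLib.flat_coker_of_hm (dIn C n) (dOut C n) (dOut_dIn C n)

include hfl hH hN in
theorem nonempty_bc (B : Type u) [CommRing B] [Algebra A B] (n : ℕ) :
    Nonempty ((CohIII.bcCx (algebraMap A B) C).homology n ≃ₗ[B] B ⊗[A] (C.homology n : Type u)) := by
  haveI := hfl (n + 1)
  haveI : Module.Flat A ((C.X (n + 1) : Type u) ⧸ LinearMap.range (dOut C n)) := by
    have h := flat_coker_in C hfl hH N hN (n + 1)
    have e : ∀ j, j = n → LinearMap.range ((C.d j (n + 1)).hom) = LinearMap.range (dOut C n) := by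
      rintro j rfl; rfl
    exact Module.Flat.of_linearEquiv (Submodule.quotEquivOfEq _ _ (e _ (CochainComplex.prev_nat_succ n))).symm
  let D := CohIII.bcCx (algebraMap A B) C
  let e1 : Hm (dIn D n) (dOut D n) ≃ₗ[B] Hm ((dIn C n).baseChange B) ((dOut C n).baseChange B) :=
    FlatCxLib.hmCongr (FlatCxLib.extEquiv (B := B) (C.X _)) (FlatCxLib.extEquiv (B := B) (C.X n))
      (FlatCxLib.extEquiv (B := B) (C.X (n + 1))) (FlatCxLib.extEquiv_map (C.d _ n))
      (FlatCxLib.extEquiv_map (C.d n (n + 1)))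
  exact ⟨(hmEquiv D n).symm.trans (e1.trans
    ((LinearEquiv.ofBijective (CohCmpLib.canHm (dIn C n) (dOut C n) B)
      (CohCmpLib.canHm_bijective_of_flat (dIn C n) (dOut C n) (dOut_dIn C n) B)).symm.trans
      (LinearEquiv.baseChange A B _ _ (hmEquiv C n))))⟩

end FlatHomBC
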